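import Mathlib
import Cfsg.Prelude.Def_Sporadic
import Cfsg.Agent.S4371
import Cfsg.Agent.S0497
import Cfsg.Agent.Lib.Lie.OrderSixty
import Cfsg.Agent.Lib.Solv.CIT.EPPOGroups
import Cfsg.Agent.Lib.Lead.SuzukiSolCount

/-!
# Simple groups with at most five element orders
-/

set_option autoImplicit false

namespace Cfsg.Agent.Small.FiveOrbits

open Cfsg

universe u

variable {G : Type u} [Group G] [Finite G]

/-- The assertion that there are at most five element orders. -/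
def FiveOrders (G : Type u) [Group G] : Prop :=
  ∀ l : List ℕ, l.Nodup → (∀ m ∈ l, ∃ g : G, orderOf g = m) → l.length ≤ 5

theorem fiveOrders_of_orbits (h : Nat.card (MulAction.orbitRel.Quotient (MulAut G) G) ≤ 5) :
    FiveOrders G := by
  classical
  intro l hl hex
  let f : MulAction.orbitRel.Quotient (MulAut G) G → ℕ := Quotient.lift orderOf (by
    rintro a b ⟨φ, rfl⟩
    exact orderOf_injective φ.toMonoidHom φ.injective b)
  haveI := Fintype.ofFinite (MulAction.orbitRel.Quotient (MulAut G) G)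
  have hsub : l.toFinset ⊆ (Finset.univ : Finset (MulAction.orbitRel.Quotient (MulAut G) G)).image f := by
    intro m hm
    obtain ⟨g, hg⟩ := hex m (List.mem_toFinset.1 hm)
    exact Finset.mem_image.2 ⟨Quotient.mk'' g, Finset.mem_univ _, hg⟩
  have h1 := (Finset.card_le_card hsub).trans Finset.card_image_le
  rw [List.toFinset_card_of_nodup hl, Finset.card_univ, ← Nat.card_eq_fintype_card] at h1
  omega

theorem exists_prime_order {p : ℕ} (hp : p.Prime) (hd : p ∣ Nat.card G) : ∃ g : G, orderOf g = p := by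
  haveI := Fact.mk hp
  exact exists_prime_orderOf_dvd_card' p hd

theorem three_primes (hns : ¬ Group.IsSolvable G) :
    ∀ p : ℕ, ∃ q r : ℕ, q.Prime ∧ r.Prime ∧ q ∣ Nat.card G ∧ r ∣ Nat.card G ∧ q ≠ r ∧ q ≠ p ∧ r ≠ p := by
  intro p
  by_contra hno
  push Not at hno
  obtain ⟨q, hq, hqd, hqp⟩ : ∃ q : ℕ, q.Prime ∧ q ∣ Nat.card G ∧ q ≠ p := by
    by_contra hno1
    push Not at hno1
    by_cases hp : p.Prime
    · exact hns (Char.isSolvable_of_two_primes hp hp _ rfl fun r hr hrd => Or.inl (hno1 r hr hrd))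
    · exact hns (Char.isSolvable_of_two_primes Nat.prime_two Nat.prime_two _ rfl fun r hr hrd =>
        absurd (hno1 r hr hrd ▸ hr) hp)
  by_cases hp : p.Prime
  · refine hns (Char.isSolvable_of_two_primes hp hq _ rfl fun r hr hrd => ?_)
    by_contra hr'
    push Not at hr'
    exact hr'.1 (hno q r hq hr hqd hrd (Ne.symm hr'.2) hqp)
  · refine hns (Char.isSolvable_of_two_primes hq hq _ rfl fun r hr hrd => ?_)
    by_contra hr'
    have hrq : q ≠ r := fun e => hr' (Or.inl e.symm)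
    exact hp (hno q r hq hr hqd hrd hrq hqp ▸ hr)

theorem no_three (hns : ¬ Group.IsSolvable G) (h : FiveOrders G) :
    ∀ p : ℕ, p.Prime → ∀ a b c : G, orderOf a ≠ orderOf b → orderOf b ≠ orderOf c → orderOf a ≠ orderOf c →
      ¬ (p ∣ orderOf a ∧ p ∣ orderOf b ∧ p ∣ orderOf c) := by
  intro p hp a b c hab hbc hac hd
  obtain ⟨q, r, hq, hr, hqd, hrd, hqr, hqp, hrp⟩ := three_primes hns p
  have hne : ∀ x : G, p ∣ orderOf x → orderOf x ≠ 1 ∧ orderOf x ≠ q ∧ orderOf x ≠ r := by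
    intro x hx
    refine ⟨fun e => ?_, fun e => ?_, fun e => ?_⟩ <;> rw [e] at hx
    · exact hp.one_lt.ne' (Nat.dvd_one.1 hx)
    · exact hqp ((Nat.prime_dvd_prime_iff_eq hp hq).1 hx).symm
    · exact hrp ((Nat.prime_dvd_prime_iff_eq hp hr).1 hx).symm
  obtain ⟨ha1, haq, har⟩ := hne a hd.1
  obtain ⟨hb1, hbq, hbr⟩ := hne b hd.2.1
  obtain ⟨hc1, hcq, hcr⟩ := hne c hd.2.2
  have hq1 := hq.one_lt
  have hr1 := hr.one_lt
  have := h [1, q, r, orderOf a, orderOf b, orderOf c] (by simp; omega) (by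
    simp only [List.mem_cons, List.not_mem_nil, or_false]
    rintro m (hx | hx | hx | hx | hx | hx) <;> rw [hx]
    exacts [⟨1, orderOf_one⟩, exists_prime_order hq hqd, exists_prime_order hr hrd, ⟨a, rfl⟩, ⟨b, rfl⟩, ⟨c, rfl⟩])
  simp at this

variable {F : Type} [Field F] [Fintype F]

theorem psl_exists (e : G ≃* Matrix.ProjectiveSpecialLinearGroup (Fin 2) F) (p : ℕ) [Fact p.Prime]
    [CharP F p] (h4 : 4 ≤ Fintype.card F) {m : ℕ}
    (hm : m ∣ p ∨ m ∣ (Fintype.card F - 1) / Nat.gcd 2 (Fintype.card F - 1) ∨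
      m ∣ (Fintype.card F + 1) / Nat.gcd 2 (Fintype.card F - 1)) : ∃ g : G, orderOf g = m := by
  obtain ⟨y, hy⟩ := Small.SL2C.order_exists p h4 m hm
  exact ⟨e.symm y, by rw [← hy]; exact orderOf_injective e.symm.toMonoidHom e.symm.injective y⟩

/-- In characteristic two only four and eight elements are possible. -/
theorem psl_even (h : FiveOrders G) (e : G ≃* Matrix.ProjectiveSpecialLinearGroup (Fin 2) F) [CharP F 2]
    (h4 : 4 ≤ Fintype.card F) : Fintype.card F = 4 ∨ Fintype.card F = 8 := by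
  haveI : Fact (Nat.Prime 2) := ⟨Nat.prime_two⟩
  obtain ⟨n, -, hn⟩ := FiniteField.card F 2
  have hn4 : 2 ≤ (n : ℕ) := by
    by_contra hlt
    have : 0 < (n : ℕ) := n.pos
    rw [hn, show (n : ℕ) = 1 by omega] at h4
    norm_num at h4
  have hg : Nat.gcd 2 (Fintype.card F - 1) = 1 := by
    have : 2 ∣ Fintype.card F := hn ▸ dvd_pow_self 2 n.ne_zero
    exact Nat.coprime_iff_gcd_eq_one.1 ((Nat.prime_two.coprime_iff_not_dvd).2 (by omega))
  have hex : ∀ m, m ∣ 2 ∨ m ∣ Fintype.card F - 1 ∨ m ∣ Fintype.card F + 1 → ∃ g : G, orderOf g = m :=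
    fun m hm => psl_exists e 2 h4 (by rwa [hg, Nat.div_one, Nat.div_one])
  obtain ⟨j, hj | hj⟩ := (n : ℕ).even_or_odd'
  · rcases (show j = 1 ∨ 2 ≤ j by omega) with rfl | hj2
    · exact Or.inl (by rw [hn, hj]; norm_num)
    exfalso
    obtain ⟨x, hx⟩ : ∃ x, x = 2 ^ j := ⟨_, rfl⟩
    have hx4 : 4 ≤ x := hx ▸ Nat.pow_le_pow_right (n := 2) two_pos hj2
    have hx2 : x % 2 = 0 := by rw [hx, Nat.pow_mod, Nat.mod_self, zero_pow (by omega), Nat.zero_mod]
    have hq : Fintype.card F = x * x := by rw [hn, hj, hx, ← pow_add, two_mul]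
    have hxx : x * x % 2 = 0 := by rw [Nat.mul_mod, hx2]
    have hbig : x * 4 ≤ x * x := Nat.mul_le_mul_left x hx4
    have hfac : Fintype.card F - 1 = (x - 1) * (x + 1) := by
      obtain ⟨y, rfl⟩ : ∃ y, x = y + 1 := ⟨x - 1, by omega⟩
      rw [hq, Nat.add_sub_cancel, show (y + 1) * (y + 1) = y * (y + 1 + 1) + 1 by ring, Nat.add_sub_cancel]
    have := h [1, 2, x - 1, x + 1, Fintype.card F - 1, Fintype.card F + 1] (by simp; omega) (by
      simp only [List.mem_cons, List.not_mem_nil, or_false]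
      rintro m (hx | hx | hx | hx | hx | hx) <;> rw [hx] <;> apply hex
      exacts [Or.inl (one_dvd _), Or.inl dvd_rfl, Or.inr (Or.inl ⟨_, hfac⟩),
        Or.inr (Or.inl ⟨x - 1, hfac.trans (mul_comm _ _)⟩), Or.inr (Or.inl dvd_rfl), Or.inr (Or.inr dvd_rfl)])
    simp at this
  · rcases (show j = 1 ∨ 2 ≤ j by omega) with rfl | hj2
    · exact Or.inr (by rw [hn, hj]; norm_num)
    exfalso
    have h32 : 32 ≤ Fintype.card F := by
      rw [hn]; exact le_trans (by norm_num) (Nat.pow_le_pow_right two_pos (show 5 ≤ (n : ℕ) by omega))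
    have h3 : Fintype.card F % 3 = 2 := by
      rw [hn, hj, pow_succ, pow_mul, Nat.mul_mod, Nat.pow_mod]
      norm_num
    have hev : Fintype.card F % 2 = 0 := by
      rw [hn, Nat.pow_mod, Nat.mod_self, zero_pow n.ne_zero, Nat.zero_mod]
    have := h [1, 2, 3, (Fintype.card F + 1) / 3, Fintype.card F - 1, Fintype.card F + 1] (by simp; omega) (by
      simp only [List.mem_cons, List.not_mem_nil, or_false]
      rintro m (hx | hx | hx | hx | hx | hx) <;> rw [hx] <;> apply hex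
      exacts [Or.inl (one_dvd _), Or.inl dvd_rfl, Or.inr (Or.inr (Nat.dvd_of_mod_eq_zero (by omega))),
        Or.inr (Or.inr (Nat.div_dvd_of_dvd (Nat.dvd_of_mod_eq_zero (by omega)))),
        Or.inr (Or.inl dvd_rfl), Or.inr (Or.inr dvd_rfl)])
    simp at this

/-- In odd characteristic congruent to three or five modulo eight there are none above five. -/
theorem psl_odd (h : FiveOrders G) (e : G ≃* Matrix.ProjectiveSpecialLinearGroup (Fin 2) F)
    (h5 : 5 < Fintype.card F) (h8 : Fintype.card F % 8 = 3 ∨ Fintype.card F % 8 = 5) : False := by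
  obtain ⟨r, hr⟩ := CharP.exists F
  haveI : Fact r.Prime := ⟨CharP.char_is_prime F r⟩
  have hrp : r.Prime := Fact.out
  obtain ⟨n, -, hn⟩ := FiniteField.card F r
  have hrq : r ∣ Fintype.card F := hn ▸ dvd_pow_self r n.ne_zero
  have hr2 : r ≠ 2 := fun e2 => by subst e2; omega
  have hrodd : r % 2 = 1 := hrp.eq_two_or_odd.resolve_left hr2
  have hg : Nat.gcd 2 (Fintype.card F - 1) = 2 := Nat.gcd_eq_left (by omega)
  obtain ⟨k, m, hk, hm, hk1, hm1, hko, hmo, hkd, hmd, hkm⟩ : ∃ k m : ℕ,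
      ((2 * k ∣ (Fintype.card F - 1) / 2) ∨ (2 * k ∣ (Fintype.card F + 1) / 2)) ∧
      ((m ∣ (Fintype.card F - 1) / 2) ∨ (m ∣ (Fintype.card F + 1) / 2)) ∧
      1 < k ∧ 1 < m ∧ k % 2 = 1 ∧ m % 2 = 1 ∧ k ≠ r ∧ m ≠ r ∧ k ≠ m := by
    have key : ∀ k : ℕ, 1 < k → (k ∣ Fintype.card F + 1 ∨ k ∣ Fintype.card F - 1) → k ≠ r := by
      intro k hk1 hd e
      subst e
      rcases hd with hd | hd
      · exact hrp.one_lt.ne' (Nat.dvd_one.1 (by simpa using Nat.dvd_sub hd hrq))
      · have := Nat.dvd_sub hrq hd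
        rw [show Fintype.card F - (Fintype.card F - 1) = 1 by omega] at this
        exact hrp.one_lt.ne' (Nat.dvd_one.1 this)
    rcases h8 with h8 | h8
    · refine ⟨(Fintype.card F + 1) / 4, (Fintype.card F - 1) / 2, Or.inr ⟨1, by omega⟩, Or.inl dvd_rfl,
        by omega, by omega, by omega, by omega, key _ (by omega) (Or.inl ⟨4, by omega⟩),
        key _ (by omega) (Or.inr ⟨2, by omega⟩), by omega⟩
    · refine ⟨(Fintype.card F - 1) / 4, (Fintype.card F + 1) / 2, Or.inl ⟨1, by omega⟩, Or.inr dvd_rfl,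
        by omega, by omega, by omega, by omega, key _ (by omega) (Or.inr ⟨4, by omega⟩),
        key _ (by omega) (Or.inl ⟨2, by omega⟩), by omega⟩
  have hex : ∀ x, x ∣ r ∨ x ∣ (Fintype.card F - 1) / 2 ∨ x ∣ (Fintype.card F + 1) / 2 → ∃ g : G, orderOf g = x :=
    fun x hx => psl_exists e r (by omega) (by rwa [hg])
  have := h [1, 2, r, k, 2 * k, m] (by simp; have := hrp.one_lt; omega) (by
    simp only [List.mem_cons, List.not_mem_nil, or_false]
    rintro x (hx | hx | hx | hx | hx | hx) <;> rw [hx] <;> apply hex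
    exacts [Or.inl (one_dvd _), Or.inr (hk.imp (dvd_trans (dvd_mul_right 2 k)) (dvd_trans (dvd_mul_right 2 k))),
      Or.inl dvd_rfl, Or.inr (hk.imp (dvd_trans (dvd_mul_left k 2)) (dvd_trans (dvd_mul_left k 2))),
      Or.inr hk, Or.inr hm])
  simp at this

/-- Four prime divisors leave no room for an element of order four. -/
theorem ipp_of_four_primes (h : FiveOrders G) {a b c : ℕ} (ha : a.Prime) (hb : b.Prime) (hc : c.Prime)
    (had : a ∣ Nat.card G) (hbd : b ∣ Nat.card G) (hcd : c ∣ Nat.card G) (h2d : 2 ∣ Nat.card G)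
    (hd : a ≠ 2 ∧ b ≠ 2 ∧ c ≠ 2 ∧ a ≠ b ∧ b ≠ c ∧ a ≠ c) (g : G) (hg : g ≠ 1) :
    (orderOf g).Prime := by
  by_contra hnp
  have h1 : orderOf g ≠ 1 := fun e => hg (orderOf_eq_one_iff.1 e)
  have := ha.one_lt
  have := hb.one_lt
  have := hc.one_lt
  have hne : ∀ x : ℕ, x.Prime → orderOf g ≠ x := fun x hx e => hnp (e ▸ hx)
  have := hne a ha
  have := hne b hb
  have := hne c hc
  have := hne 2 Nat.prime_two
  have := h [1, 2, a, b, c, orderOf g] (by simp; omega) (by
    simp only [List.mem_cons, List.not_mem_nil, or_false]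
    rintro x (hx | hx | hx | hx | hx | hx) <;> rw [hx]
    exacts [⟨1, orderOf_one⟩, exists_prime_order Nat.prime_two h2d, exists_prime_order ha had,
      exists_prime_order hb hbd, exists_prime_order hc hcd, ⟨g, rfl⟩])
  simp at this

/-- The small Suzuki groups have an element of order four. -/
theorem exists_four_of_szSmall (h : Solv.CITGroups.SzSmall G) : ∃ g : G, orderOf g = 4 := by
  obtain ⟨F, iF, iFF, hS⟩ := h
  have key : ∀ m : ℕ, 1 ≤ m → ∀ hF : Fintype.card F = 2 ^ (2 * m + 1),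
      Nonempty (G ≃* ↥(Cfsg.Lie.Sz F (2 ^ (m + 1)))) → ∃ g : G, orderOf g = 4 := by
    rintro m hm hF ⟨e⟩
    obtain ⟨e'⟩ := Lie.Suzuki.lie_sz_equiv hF hm
    refine ⟨(e'.trans e.symm) (Lie.Suzuki.tS hF (1 : F) 0), ?_⟩
    rw [show orderOf ((e'.trans e.symm) (Lie.Suzuki.tS hF (1 : F) 0)) = orderOf (Lie.Suzuki.tS (m := m) hF (1 : F) 0) from
      orderOf_injective (e'.trans e.symm).toMonoidHom (e'.trans e.symm).injective _]
    exact (SzSolvable.tS_order hF hm 1 0).2.2 one_ne_zero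
  rcases hS with ⟨hF, he⟩ | ⟨hF, he⟩
  · exact key 1 le_rfl (by rw [hF]; norm_num) he
  · exact key 2 (by norm_num) (by rw [hF]; norm_num) he

variable [IsSimpleGroup G]

/-- The order of a Suzuki group does not occur. -/
theorem not_suzuki_order (hna : ∃ a b : G, a * b ≠ b * a) (h : FiveOrders G) {n : ℕ} (hn : 1 ≤ n)
    (hc : Nat.card G = (2 ^ (2 * n + 1)) ^ 2 * ((2 ^ (2 * n + 1)) ^ 2 + 1) * (2 ^ (2 * n + 1) - 1)) : False := by
  obtain ⟨r, hr⟩ : ∃ r, r = 2 ^ (n + 1) := ⟨_, rfl⟩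
  obtain ⟨q, hq⟩ : ∃ q, q = 2 ^ (2 * n + 1) := ⟨_, rfl⟩
  rw [← hq] at hc
  have hrr : r * r = 2 * q := by rw [hr, hq, ← pow_add, ← pow_succ']; congr 1; omega
  have hr4 : 4 ≤ r := hr ▸ Nat.pow_le_pow_right (n := 2) two_pos (show 2 ≤ n + 1 by omega)
  have hq8 : 8 ≤ q := hq ▸ Nat.pow_le_pow_right (n := 2) two_pos (show 3 ≤ 2 * n + 1 by omega)
  have hlt : r < q := hr ▸ hq ▸ Nat.pow_lt_pow_right one_lt_two (by omega)
  have hqe : q % 2 = 0 := by rw [hq, Nat.pow_mod, Nat.mod_self, zero_pow (by omega), Nat.zero_mod]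
  have hre : r % 2 = 0 := by rw [hr, Nat.pow_mod, Nat.mod_self, zero_pow (by omega), Nat.zero_mod]
  obtain ⟨U, hU⟩ : ∃ U, U = q - r + 1 := ⟨_, rfl⟩
  obtain ⟨V, hV⟩ : ∃ V, V = q + r + 1 := ⟨_, rfl⟩
  have hUV : q ^ 2 + 1 = U * V := by
    rw [hU, hV]
    obtain ⟨d, rfl⟩ : ∃ d, q = d + r := ⟨q - r, by omega⟩
    rw [Nat.add_sub_cancel]
    nlinarith
  have hcG : Nat.card G = q ^ 2 * (U * V) * (q - 1) := by rw [hc, hUV]
  obtain ⟨a, ha, had⟩ := Nat.exists_prime_and_dvd (show q - 1 ≠ 1 by omega)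
  obtain ⟨b, hb, hbd⟩ := Nat.exists_prime_and_dvd (show U ≠ 1 by omega)
  obtain ⟨c, hcp, hcd⟩ := Nat.exists_prime_and_dvd (show V ≠ 1 by omega)
  have hodd : ∀ {x y : ℕ}, x ∣ y → y % 2 = 1 → x ≠ 2 := fun {x y} hxy hy e => by
    subst e
    omega
  have ha2 : a ≠ 2 := hodd had (by omega)
  have hb2 : b ≠ 2 := hodd hbd (by omega)
  have hc2 : c ≠ 2 := hodd hcd (by omega)
  have hno2 : ∀ {x : ℕ}, x.Prime → x ≠ 2 → ¬ x ∣ 2 := fun {x} hx hx2 hd =>
    hx2 ((Nat.prime_dvd_prime_iff_eq hx Nat.prime_two).1 hd)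
  have hnoq : ∀ {x : ℕ}, x.Prime → x ≠ 2 → x ∣ q - 1 → ¬ x ∣ U * V := by
    intro x hx hx2 hxq hxU
    rw [← hUV] at hxU
    have h1 : x ∣ q ^ 2 - 1 := by
      refine hxq.trans ⟨q + 1, ?_⟩
      obtain ⟨d, rfl⟩ : ∃ d, q = d + 1 := ⟨q - 1, by omega⟩
      rw [Nat.add_sub_cancel, show (d + 1) ^ 2 = d * (d + 1 + 1) + 1 by ring, Nat.add_sub_cancel]
    have := Nat.dvd_sub hxU h1
    rw [show q ^ 2 + 1 - (q ^ 2 - 1) = 2 by have := Nat.one_le_pow 2 q (by omega); omega] at this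
    exact hno2 hx hx2 this
  have hab : a ≠ b := fun e => hnoq ha ha2 had (e ▸ dvd_mul_of_dvd_left hbd V)
  have hac : a ≠ c := fun e => hnoq ha ha2 had (e ▸ dvd_mul_of_dvd_right hcd U)
  have hbc : b ≠ c := by
    intro e
    subst e
    have := Nat.dvd_sub hcd hbd
    rw [show V - U = 2 * r by omega] at this
    rcases hb.dvd_mul.1 this with h' | h'
    · exact hno2 hb hb2 h'
    · exact hno2 hb hb2 (hb.dvd_of_dvd_pow (hr ▸ h'))
  have hpr := ipp_of_four_primes h ha hb hcp (hcG ▸ dvd_mul_of_dvd_right had _)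
    (hcG ▸ dvd_mul_of_dvd_left (dvd_mul_of_dvd_right (dvd_mul_of_dvd_left hbd V) _) _)
    (hcG ▸ dvd_mul_of_dvd_left (dvd_mul_of_dvd_right (dvd_mul_of_dvd_right hcd U) _) _)
    (hcG ▸ dvd_mul_of_dvd_left (dvd_mul_of_dvd_left (dvd_pow (Nat.dvd_of_mod_eq_zero hqe) two_ne_zero) _) _)
    ⟨ha2, hb2, hc2, hab, hbc, hac⟩
  have hbig : 29120 ≤ Nat.card G := by
    rw [hc]
    calc 29120 = 8 ^ 2 * (8 ^ 2 + 1) * (8 - 1) := by norm_num
      _ ≤ _ := by gcongr
  rcases Solv.CITGroups.simple_card (fun g hg => (hpr g hg).isPrimePow) hna with hs | ⟨-, hs⟩ | hs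
  · simp only [Finset.mem_insert, Finset.mem_singleton] at hs
    omega
  · omega
  · obtain ⟨g, hg⟩ := exists_four_of_szSmall hs
    have hg1 : g ≠ 1 := fun e => by rw [e, orderOf_one] at hg; omega
    have := hpr g hg1
    rw [hg] at this
    norm_num at this

/-- The conclusion. -/
theorem main (hna : ∃ a b : G, a * b ≠ b * a) (h : FiveOrders G) :
    Nonempty (G ≃* ↥(alternatingGroup (Fin 5))) ∨ Nonempty (G ≃* ↥(alternatingGroup (Fin 6))) ∨
      (∃ (F : Type) (_ : Field F) (_ : Fintype F), (Fintype.card F = 7 ∨ Fintype.card F = 8) ∧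
        Nonempty (G ≃* Matrix.ProjectiveSpecialLinearGroup (Fin 2) F)) := by
  have hns : ¬ Group.IsSolvable G := Solv.CITGroups.not_sol_of_simple hna
  rcases S4371.result hns (no_three hns h) with ⟨F, iF, iFF, hch, h4, -, -, ⟨e⟩⟩ | ⟨F, iF, iFF, h5, h8, -, -, ⟨e⟩⟩ |
    ⟨F, iF, iFF, hF, ⟨e⟩⟩ | ⟨F, iF, iFF, hF, ⟨e⟩⟩ | ⟨n, hn, -, hc, -, -, -⟩
  · haveI : Fact (Nat.Prime 2) := ⟨Nat.prime_two⟩
    have hcore : Cfsg.pCore 2 G = ⊥ := by
      haveI : (Cfsg.pCore 2 G).Normal := inferInstance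
      rcases IsSimpleGroup.eq_bot_or_eq_top_of_normal (Cfsg.pCore 2 G) inferInstance with hb | ht
      · exact hb
      · exfalso
        have hsub : Subsingleton (Matrix.ProjectiveSpecialLinearGroup (Fin 2) F) := by
          haveI : Subsingleton (G ⧸ Cfsg.pCore 2 G) := by
            rw [ht]; exact QuotientGroup.subsingleton_quotient_top
          exact e.symm.toEquiv.subsingleton
        haveI := hsub
        have hcard := Classical.Dickson.card_psl F
        rw [Nat.card_of_subsingleton (1 : Matrix.ProjectiveSpecialLinearGroup (Fin 2) F)] at hcard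
        have : Fintype.card F * (4 ^ 2 - 1) ≤ Fintype.card F * (Fintype.card F ^ 2 - 1) := by
          gcongr
        have := Nat.gcd_le_left (Fintype.card F - 1) two_pos
        omega
    let e' : G ≃* Matrix.ProjectiveSpecialLinearGroup (Fin 2) F :=
      ((QuotientGroup.quotientMulEquivOfEq hcore).trans QuotientGroup.quotientBot).symm.trans e
    rcases psl_even h e' h4 with hF | hF
    · left
      have hc := Classical.Dickson.card_psl F
      rw [← Nat.card_congr e'.toEquiv, hF] at hc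
      exact Lie.simple_sixty (by norm_num at hc; omega)
    · exact Or.inr (Or.inr ⟨F, iF, iFF, Or.inr hF, ⟨e'⟩⟩)
  · exact (psl_odd h e h5 h8).elim
  · rcases hF with hF | hF
    · exact Or.inr (Or.inr ⟨F, iF, iFF, Or.inl hF, ⟨e⟩⟩)
    · refine Or.inr (Or.inl (S0497.result ?_))
      have hc := Classical.Dickson.card_psl F
      rw [← Nat.card_congr e.toEquiv, hF] at hc
      norm_num at hc
      omega
  · exfalso
    have hL : Solv.CITGroups.L34 G := ⟨F, iF, iFF, hF, ⟨e⟩⟩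
    have hc : Nat.card G = 20160 := by rw [Nat.card_congr e.toEquiv, Spor.PlaneAut.card_psl34 hF]
    obtain ⟨g, hg⟩ := Solv.SpecThree.exists_four_of_l34 hL
    have hg1 : g ≠ 1 := fun e1 => by rw [e1, orderOf_one] at hg; omega
    have := ipp_of_four_primes h Nat.prime_three Nat.prime_five (show Nat.Prime 7 by norm_num)
      (by rw [hc]; norm_num) (by rw [hc]; norm_num) (by rw [hc]; norm_num) (by rw [hc]; norm_num)
      (by norm_num) g hg1
    rw [hg] at this
    norm_num at this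
  · exact (not_suzuki_order hna h hn hc).elim

end Cfsg.Agent.Small.FiveOrbits
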